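import Groth.Agent.ModStalk.Exact
import Groth.Agent.DCat.FlatPull
import Groth.Agent.Coherent.CohBC.SectionsCalculus
import Groth.Agent.KvbLam28.Basic
import Groth.Agent.FlatMorAdm.LocFreeApps
import Groth.Agent.Props12.FinLocFree
import Groth.Prelude.Def_KRR

/-!
# Pullback of classes of vector bundles along an arbitrary morphism
-/

set_option autoImplicit false
set_option backward.isDefEq.respectTransparency false
set_option linter.style.haveILetI false

universe u v w

open CategoryTheory CategoryTheory.Limits AlgebraicGeometry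

namespace Groth.Agent.KPull28

variable {X Y : Scheme.{u}} (f : X ⟶ Y)

theorem mono_pullback_map {S : ShortComplex Y.Modules} (hS : S.ShortExact) (h₃ : FlatMod.IsFinLocFree S.X₃) :
    Mono ((Scheme.Modules.pullback f).map S.f) := by
  haveI := CAlgH3.LocFreeFactor.isQCoh_of_finLocFree h₃
  refine Preadditive.mono_of_isZero_kernel _ (ModStalk.isZero_of_stalks fun x => ?_)
  haveI : Module.Free (Y.presheaf.stalk (f.base x)) (S.X₃.presheaf.stalk (f.base x)) :=
    Props12.free_stalk_of_isFinLocFree S.X₃ h₃ (f.base x)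
  let T := S.map (DerSch.stalkFunctor Y (f.base x))
  have hT : T.ShortExact := hS.map_of_exact _
  haveI : Module.Projective (Y.presheaf.stalk (f.base x)) (T.X₃ : Type u) :=
    inferInstanceAs (Module.Projective (Y.presheaf.stalk (f.base x)) (S.X₃.presheaf.stalk (f.base x)))
  haveI : Projective T.X₃ := (IsProjective.iff_projective (R := Y.presheaf.stalk (f.base x)) T.X₃).1 inferInstance
  let sp := hT.splittingOfProjective
  haveI : Mono ((ModuleCat.extendScalars (f.stalkMap x).hom).map T.f) :=
    (sp.map (ModuleCat.extendScalars (f.stalkMap x).hom)).mono_f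
  haveI : Mono ((DerSch.stalkFunctor X x).map ((Scheme.Modules.pullback f).map S.f)) :=
    (MorphismProperty.monomorphisms (ModuleCat (X.presheaf.stalk x))).arrow_mk_iso_iff
      (Arrow.isoMk (f := Arrow.mk ((DerSch.stalkFunctor X x).map ((Scheme.Modules.pullback f).map S.f)))
        (g := Arrow.mk ((ModuleCat.extendScalars (f.stalkMap x).hom).map T.f))
        ((ModStalk.pullbackStalkIso f x).app S.X₁) ((ModStalk.pullbackStalkIso f x).app S.X₂)
        ((ModStalk.pullbackStalkIso f x).hom.naturality S.f).symm) |>.2 ‹_›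
  exact IsZero.of_iso (isZero_kernel_of_mono _)
    (PreservesKernel.iso (DerSch.stalkFunctor X x) ((Scheme.Modules.pullback f).map S.f))

theorem shortExact_pullback {S : ShortComplex Y.Modules} (hS : S.ShortExact) (h₃ : FlatMod.IsFinLocFree S.X₃) :
    (S.map (Scheme.Modules.pullback f)).ShortExact := by
  obtain ⟨hex, hepi⟩ := Coherent.CohBC.pullback_exact_of_shortExact f S hS
  exact ShortComplex.ShortExact.mk' hex (mono_pullback_map f hS h₃) hepi

theorem exists_pull : ∃ q : SGA6.Kvb Y →+ SGA6.Kvb X, ∀ E : Y.Modules, FlatMod.IsFinLocFree E →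
    q (KRR.cl Y E) = KRR.cl X ((Scheme.Modules.pullback f).obj E) := by
  refine KvbLam28.exists_lift (X := Y) (fun E => KRR.cl X ((Scheme.Modules.pullback f).obj E)) fun S hS h₁ h₂ h₃ => ?_
  exact ExtFilt28.clv_ses (shortExact_pullback f hS h₃) (FlatMorAdm.isFinLocFree_pullback f h₁)
    (FlatMorAdm.isFinLocFree_pullback f h₂) (FlatMorAdm.isFinLocFree_pullback f h₃)

theorem existsUnique_isPull {KX : Type v} {KY : Type w} [CommRing KX] [CommRing KY]
    (φX : SGA6.Kvb X →+ KX) (φY : SGA6.Kvb Y →+ KY) (hY : Function.Bijective φY) :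
    ∃! g : KY →+ KX, KRR.IsPull f φY φX g := by
  obtain ⟨q, hq⟩ := exists_pull f
  let e : SGA6.Kvb Y ≃+ KY := AddEquiv.ofBijective φY hY
  refine ⟨φX.comp (q.comp e.symm.toAddMonoidHom), fun E hE => ?_, fun g hg => ?_⟩
  · show φX (q (e.symm (φY (KRR.cl Y E)))) = _
    rw [show e.symm (φY (KRR.cl Y E)) = KRR.cl Y E from e.symm_apply_apply _, hq E hE]
  · refine AddMonoidHom.ext fun y => ?_
    obtain ⟨x, rfl⟩ := hY.2 y
    show g (φY x) = φX (q (e.symm (φY x)))
    rw [show e.symm (φY x) = x from e.symm_apply_apply _]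
    refine KvbLam28.kvb_induction (P := fun x => g (φY x) = φX (q x)) (by simp) ?_ ?_ ?_ x
    · intro E hE
      exact (hg E hE).trans (congrArg φX (hq E hE)).symm
    · intro a h; simp only [map_neg, h]
    · intro a b ha hb; simp only [map_add, ha, hb]

end Groth.Agent.KPull28
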